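import Groth.Agent.SpreadHom.Basic
import Groth.Agent.MiscSh16.StalkBij
import Groth.Agent.KFlatLib.Scheme.MayerVietoris
import Groth.Agent.ParaFX.Closed
import Groth.Agent.DepthTwist.IdealPow
import Groth.Agent.QCoh.DevissageSum
import Groth.Agent.ParShLib.ResStalk
import Groth.Agent.KZ.OpenExt
import Groth.Agent.SheafHomX.Coherent
import Groth.Agent.NodeLib.IsNodeChar
import Groth.Agent.DimOne.Basic
import Groth.Agent.RefX.Reflexive

/-! Modules with isomorphic stalks at a point are isomorphic near it. -/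

set_option autoImplicit false
set_option linter.style.haveILetI false
set_option linter.unusedSectionVars false
set_option backward.isDefEq.respectTransparency false
set_option backward.isDefEq.respectTransparency.types false
set_option maxHeartbeats 1000000

universe u

noncomputable section

open CategoryTheory CategoryTheory.Limits AlgebraicGeometry TopologicalSpace Opposite

namespace Groth.Agent.NodeLocal7

open Groth.Agent

variable {X : Scheme.{u}} [IsLocallyNoetherian X]

set_option synthInstance.maxHeartbeats 100000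

theorem exists_restrict_iso {F G : X.Modules} (hF : Coh.IsCoh F) (hG : Coh.IsCoh G) (x : X)
    (e : G.presheaf.stalk x ≃ₗ[X.presheaf.stalk x] F.presheaf.stalk x) (U₀ : X.Opens) (hx₀ : x ∈ U₀) :
    ∃ U : X.Opens, x ∈ U ∧ U ≤ U₀ ∧ Nonempty (F.restrict U.ι ≅ G.restrict U.ι) := by
  obtain ⟨W, hx, φ, hφ⟩ := SpreadHom.exists_hom_restrict_of_stalk hG x (F := G) (G := F) e.toLinearMap
  let p : W := ⟨x, hx⟩
  have hb : Function.Bijective (RefHull.stalkMapₗ φ p) := by
    have h1 : ((TopCat.Presheaf.stalkFunctor _ p).map φ.mapPresheaf) =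
        (Scheme.Modules.restrictStalkNatIso W.ι p).hom.app G ≫ AddCommGrpCat.ofHom e.toLinearMap.toAddMonoidHom ≫
          (Scheme.Modules.restrictStalkNatIso W.ι p).inv.app F := by
      rw [← hφ]; simp [p]
    haveI : IsIso (AddCommGrpCat.ofHom e.toLinearMap.toAddMonoidHom) :=
      (ConcreteCategory.isIso_iff_bijective _).2 e.bijective
    have h2 : Function.Bijective ((TopCat.Presheaf.stalkFunctor _ p).map φ.mapPresheaf) := by
      rw [h1]; exact ConcreteCategory.bijective_of_isIso _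
    exact h2
  have hcG : Coh.IsCoh (G.restrict W.ι) := ⟨QCoh.isQCoh_restrict W.ι hG.1, Algz7.isFT_restrict W.ι hG.1 hG.2⟩
  have hcF : Coh.IsCoh (F.restrict W.ι) := ⟨QCoh.isQCoh_restrict W.ι hF.1, Algz7.isFT_restrict W.ι hF.1 hF.2⟩
  let O : (W : Scheme.{u}).Opens :=
    ⟨{y | Function.Bijective (RefHull.stalkMapₗ φ y)}, MiscSh16.isOpen_bijective_locus hcG hcF φ⟩ ⊓ W.ι ⁻¹ᵁ U₀
  have hpO : p ∈ O := ⟨hb, hx₀⟩
  haveI : IsIso ((Scheme.Modules.restrictFunctor O.ι).map φ) :=
    KFlatLib.isIso_restrict_of_stalk O φ fun y hy => (ConcreteCategory.isIso_iff_bijective _).2 hy.1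
  let U : X.Opens := W.ι ''ᵁ O
  let b : (U : Scheme.{u}) ⟶ O := IsOpenImmersion.lift (O.ι ≫ W.ι) U.ι (by
    rw [Scheme.Opens.range_ι, Scheme.Hom.comp_base, TopCat.coe_comp, Set.range_comp, Scheme.Opens.range_ι]
    exact le_rfl)
  have hfac : b ≫ (O.ι ≫ W.ι) = U.ι := IsOpenImmersion.lift_fac _ _ _
  haveI : IsOpenImmersion (b ≫ (O.ι ≫ W.ι)) := by rw [hfac]; infer_instance
  haveI : IsOpenImmersion b := IsOpenImmersion.of_comp b (O.ι ≫ W.ι)
  have T : ∀ M : X.Modules, Nonempty (M.restrict U.ι ≅ (((M.restrict W.ι).restrict O.ι).restrict b)) := fun M =>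
    ⟨(Scheme.Modules.restrictFunctorCongr hfac).symm.app M ≪≫ (ParaFX.restrictTwice M b (O.ι ≫ W.ι)).symm ≪≫
      (Scheme.Modules.restrictFunctor b).mapIso (ParaFX.restrictTwice M O.ι W.ι).symm⟩
  refine ⟨U, ⟨p, hpO, rfl⟩, ?_, ?_⟩
  · rintro _ ⟨y, hy, rfl⟩
    exact hy.2
  · exact ⟨(T F).some ≪≫
      (Scheme.Modules.restrictFunctor b).mapIso (asIso ((Scheme.Modules.restrictFunctor O.ι).map φ)).symm ≪≫
      (T G).some.symm⟩

omit [IsLocallyNoetherian X] in
/-- The stalk of a finite coproduct. -/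
def stalkSigma (x : X) {a : ℕ} (M : Fin a → X.Modules) :
    (∐ M).presheaf.stalk x ≃ₗ[X.presheaf.stalk x] (∀ i, (M i).presheaf.stalk x) :=
  ((DerSch.stalkFunctor X x).mapIso (biproduct.isoCoproduct M).symm ≪≫ (DerSch.stalkFunctor X x).mapBiproduct M ≪≫
    ModuleCat.biproductIsoPi fun i => (DerSch.stalkFunctor X x).obj (M i)).toLinearEquiv

omit [IsLocallyNoetherian X] in
/-- The stalk of a binary coproduct. -/
def stalkCoprod (x : X) (A B : X.Modules) :
    (A ⨿ B).presheaf.stalk x ≃ₗ[X.presheaf.stalk x] (A.presheaf.stalk x × B.presheaf.stalk x) :=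
  haveI : PreservesBinaryBiproduct A B (DerSch.stalkFunctor X x) :=
    preservesBinaryBiproduct_of_preservesBinaryCoproduct _
  ((DerSch.stalkFunctor X x).mapIso (biprod.isoCoprod A B).symm ≪≫ (DerSch.stalkFunctor X x).mapBiprod A B ≪≫
    ModuleCat.biprodIsoProd _ _).toLinearEquiv

theorem isCoh_sigma {a : ℕ} (M : Fin a → X.Modules) (h : ∀ i, Coh.IsCoh (M i)) : Coh.IsCoh (∐ M) :=
  SheafHomX.isCoh_of_iso
    (biproduct.whiskerEquiv (f := M ∘ ULift.down) (g := M) Equiv.ulift.{u} (fun _ => Iso.refl _) ≪≫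
      biproduct.isoCoproduct M) (QCoh.isCoh_biproduct _ fun i => h i.down)

/-- The stalk of the ideal module at a point where the ideal is the maximal ideal. -/
def idealStalk (D : X.IdealSheafData) (W : X.affineOpens) {x : X} (hx : x ∈ W.1)
    (h : DepthTwist.stI D W hx = IsLocalRing.maximalIdeal (X.presheaf.stalk x)) :
    (ClSub.idealMod D).presheaf.stalk x ≃ₗ[X.presheaf.stalk x] IsLocalRing.maximalIdeal (X.presheaf.stalk x) :=
  let g : (ClSub.idealMod D).presheaf.stalk x →ₗ[X.presheaf.stalk x] X.presheaf.stalk x :=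
    (RefX.unitStalk x).symm.toLinearMap.comp ((DerSch.stalkFunctor X x).map (ClSub.idealModι D)).hom
  have hg : LinearMap.range g = IsLocalRing.maximalIdeal (X.presheaf.stalk x) := by
    rw [LinearMap.range_comp, DepthTwist.range_idealModι D W hx, h, Submodule.map_smul'', Submodule.map_top,
      LinearEquiv.range, smul_eq_mul, Ideal.mul_top]
  have hi : Function.Injective g :=
    haveI : Mono (ClSub.idealModι D) := inferInstanceAs (Mono (kernel.ι _))
    (RefX.unitStalk x).symm.injective.comp ((ModuleCat.mono_iff_injective _).1 inferInstance)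
  (LinearEquiv.ofInjective g hi).trans (LinearEquiv.ofEq _ _ hg)

theorem stI_point {x : X} (hx : IsClosed ({x} : Set X)) (V : X.affineOpens) (hxV : x ∈ V.1) :
    DepthTwist.stI (Scheme.IdealSheafData.vanishingIdeal ⟨{x}, hx⟩) V hxV =
      IsLocalRing.maximalIdeal (X.presheaf.stalk x) := by
  letI := X.presheaf.algebra_section_stalk ⟨x, hxV⟩
  haveI := V.2.isLocalization_stalk ⟨x, hxV⟩
  have h1 : V.2.fromSpec ⁻¹' {x} = {V.2.primeIdealOf ⟨x, hxV⟩} := by
    ext p
    constructor
    · intro hp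
      exact V.2.fromSpec.isOpenEmbedding.injective (hp.trans (V.2.fromSpec_primeIdealOf ⟨x, hxV⟩).symm)
    · rintro rfl
      exact V.2.fromSpec_primeIdealOf ⟨x, hxV⟩
  have h2 : (Scheme.IdealSheafData.vanishingIdeal ⟨{x}, hx⟩).ideal V = (V.2.primeIdealOf ⟨x, hxV⟩).asIdeal := by
    show PrimeSpectrum.vanishingIdeal (V.2.fromSpec ⁻¹' {x}) = _
    rw [h1, PrimeSpectrum.vanishingIdeal_singleton]
  unfold DepthTwist.stI
  rw [h2]
  exact IsLocalization.AtPrime.map_eq_maximalIdeal _ _

theorem main {F : X.Modules} (hF : Coh.IsCoh F) (x : X) (hx : IsClosed ({x} : Set X)) (a b : ℕ)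
    (e : F.presheaf.stalk x ≃ₗ[X.presheaf.stalk x]
      ((Fin a → IsLocalRing.maximalIdeal (X.presheaf.stalk x)) × (Fin b → X.presheaf.stalk x)))
    (U₀ : X.Opens) (hx₀ : x ∈ U₀) :
    ∃ U : X.Opens, x ∈ U ∧ U ≤ U₀ ∧ Nonempty (F.restrict U.ι ≅
      (∐ fun _ : Fin a =>
          (ClSub.idealMod (Scheme.IdealSheafData.vanishingIdeal (⟨{x}, hx⟩ : TopologicalSpace.Closeds X))).restrict U.ι) ⨿
        (∐ fun _ : Fin b => Coh.structureModule (↑U : Scheme.{u}))) := by
  let D := Scheme.IdealSheafData.vanishingIdeal (⟨{x}, hx⟩ : TopologicalSpace.Closeds X)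
  let A : X.Modules := ∐ fun _ : Fin a => ClSub.idealMod D
  let B : X.Modules := ∐ fun _ : Fin b => Coh.structureModule X
  have hO : Coh.IsCoh (Coh.structureModule X) := RefX.isCoh_unit
  have hD : Coh.IsCoh (ClSub.idealMod D) := QCoh.isCoh_kernel hO (ParShLib.isCoh_quotMod _) _
  have hG : Coh.IsCoh (A ⨿ B) :=
    SheafHomX.isCoh_of_iso (biprod.isoCoprod A B)
      (KZ.isCoh_biprod (isCoh_sigma _ fun _ => hD) (isCoh_sigma _ fun _ => hO))
  obtain ⟨_, ⟨V, hV, rfl⟩, hxV, -⟩ := X.isBasis_affineOpens.exists_subset_of_mem_open (Set.mem_univ x) isOpen_univ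
  let es : (A ⨿ B).presheaf.stalk x ≃ₗ[X.presheaf.stalk x] F.presheaf.stalk x :=
    (stalkCoprod x A B).trans (((stalkSigma x _).prodCongr (stalkSigma x _)).trans
      (((LinearEquiv.piCongrRight fun _ : Fin a => idealStalk D ⟨V, hV⟩ hxV (stI_point hx ⟨V, hV⟩ hxV)).prodCongr
        (LinearEquiv.piCongrRight fun _ : Fin b => (RefX.unitStalk x).symm)).trans e.symm))
  obtain ⟨U, hxU, hle, ⟨i⟩⟩ := exists_restrict_iso hF hG x es U₀ hx₀
  let R := Scheme.Modules.restrictFunctor U.ι
  haveI : Limits.PreservesColimitsOfSize.{0, 0} R :=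
    (Scheme.Modules.restrictAdjunction U.ι).leftAdjoint_preservesColimits
  exact ⟨U, hxU, hle, ⟨i ≪≫ (PreservesColimitPair.iso R A B).symm ≪≫
    coprod.mapIso (PreservesCoproduct.iso R _) (PreservesCoproduct.iso R _ ≪≫
      Sigma.mapIso fun _ => KFlatLib.restrictStructureIso U.ι)⟩⟩

omit [IsLocallyNoetherian X] in
/-- A curve over an algebraically closed field with at worst nodal singularities has finitely many nodes. -/
theorem finite_nodes {k : Type u} [Field k] [IsAlgClosed k] [X.Over (Spec (CommRingCat.of k))]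
    [IsProper (X ↘ Spec (CommRingCat.of k))] (hdim : topologicalKrullDim X ≤ 1) (hnod : Curv2.AtWorstNodal k X) :
    {x : X | Curv2.IsNode k X x}.Finite := by
  let q := X ↘ Spec (CommRingCat.of k)
  haveI : LocallyOfFinitePresentation q := LocallyOfFinitePresentation.iff_locallyOfFiniteType.2 inferInstance
  haveI := CurveCohLib.isNoetherian_of_proper (k := k) (X := X)
  have hsq : IsPullback (𝟙 X) q q (𝟙 _) := IsPullback.of_horiz_isIso ⟨by simp⟩
  have hnp : ∀ x, Curv2.IsNode k X x → NodeLib.HasNodePair (X.presheaf.stalk x) := fun x hx =>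
    NodeLib.hasNodePair_of_isNode hx hsq x rfl
  refine (DimOne.finite_of_forall_not_isGen hdim q.smoothLocus.2.isClosed_compl ?_).subset fun x hx =>
    NodeLib.notMem_smoothLocus_of_hasNodePair q hdim (hnp x hx)
  intro η hη hgen
  obtain ⟨z, hz, hzc⟩ := VarDim.exists_closed_specialization q η
  apply hη
  rcases hnod z hzc with ⟨U, hzU, hU⟩ | hzn
  · have h : (⟨η, hz.mem_open U.2 hzU⟩ : U) ∈ (U.ι ≫ q).smoothLocus := by
      haveI : Smooth (U.ι ≫ q) := hU
      rw [Scheme.Hom.smoothLocus_eq_top]; trivial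
    rw [← Scheme.Hom.preimage_smoothLocus_eq] at h
    exact h
  · haveI := NodeLib.isReduced_stalk_of_hasNodePair q hzc (hnp z hzn)
    haveI := NodeLib.isReduced_stalk_of_specializes hz
    haveI := NodeLib.isNoetherianRing_stalk_of_lft q η
    haveI : Ring.KrullDimLE 0 (X.presheaf.stalk η) := by
      have := S16428.ringKrullDim_stalk_le_zero η hgen
      exact Ring.krullDimLE_iff.mpr (by simpa using this)
    have hf : IsField (X.presheaf.stalk η) := Ring.KrullDimLE.isField_of_isReduced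
    have hreg : IsRegularLocalRing (X.presheaf.stalk η) := by
      letI := hf.toField
      infer_instance
    exact (SmoothReg.mem_smoothLocus_iff_isRegularLocalRing q η).mpr hreg

end Groth.Agent.NodeLocal7
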